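import Cfsg.Agent.Lib.KGV.Layers
import Cfsg.Agent.Lib.Char.CMValue
import Cfsg.Agent.Lib.Char.Table

/-!
# Counting characters by weighted values on a coset of an abelian group
-/

set_option autoImplicit false
set_option linter.unusedSectionVars false
set_option linter.style.haveILetI false

namespace CfsgLib.KGV

open Cfsg Finset
open scoped ComplexConjugate CfsgLib.Char

attribute [local instance] Classical.propDecidable
attribute [-instance] MonoidHom.mul

noncomputable local instance instFintypeDualCount {B : Type*} [CommGroup B] [Fintype B] :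
    Fintype (B →* ℂˣ) := Fintype.ofFinite _

/-- Integral values on which conjugation commutes with the embeddings. -/
def IsNice (z : ℂ) : Prop := IsIntegral ℤ z ∧ Char.IsCMValue z

theorem IsNice.sub {x y : ℂ} (hx : IsNice x) (hy : IsNice y) : IsNice (x - y) := by
  refine ⟨hx.1.sub hy.1, ?_⟩
  have h1 : Char.IsCMValue ((-1 : ℚ) : ℂ) := Char.isCMValue_ratCast (-1)
  have := hx.2.add (h1.mul hy.2)
  convert this using 1
  push_cast
  ring

/-- Nonzero totally positive integral squares with rational sum are at most that sum. -/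
theorem countP_le {Z : List ℂ} (hZ : ∀ z ∈ Z, IsNice z) {q : ℚ}
    (hsum : (Z.map fun z => z * conj z).sum = (q : ℂ)) :
    ((Z.countP fun z => decide (z ≠ 0) : ℕ) : ℝ) ≤ (q : ℝ) := by
  classical
  set s : Finset (Fin Z.length) := Finset.univ.filter fun i => Z[i] ≠ 0 with hs
  have hint : ∀ i : Fin Z.length, IsIntegral ℤ (Z[i] * conj Z[i]) := fun i =>
    (hZ _ (List.getElem_mem i.2)).1.mul
      ((hZ _ (List.getElem_mem i.2)).1.map (starRingEnd ℂ).toIntAlgHom)
  let a : Fin Z.length → Char.QBar := fun i =>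
    ⟨Z[i] * conj Z[i], Char.mem_qbar_of_isIntegral (hint i)⟩
  obtain ⟨ψ, hψ⟩ := Char.exists_card_le_sum_embedding s a (fun i _ => hint i)
    (fun i hi h => by
      have h' : Z[i] * conj Z[i] = 0 := congrArg Subtype.val h
      rw [Complex.mul_conj, Complex.ofReal_eq_zero, Complex.normSq_eq_zero] at h'
      exact (Finset.mem_filter.mp hi).2 h')
    fun i _ ψ => (hZ _ (List.getElem_mem i.2)).2.normSq_embedding _ ψ
  have hlist : ∀ {M : Type} [AddCommMonoid M] (F : ℂ → M),
      (Z.map F).sum = ∑ i : Fin Z.length, F Z[i] := fun {M} _ F => by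
    conv_lhs => rw [← List.ofFn_getElem (xs := Z), List.map_ofFn, List.sum_ofFn]
    rfl
  have hcard : Z.countP (fun z => decide (z ≠ 0)) = s.card := by
    have h1 : Z.countP (fun z => decide (z ≠ 0)) = (Z.map fun z => if z ≠ 0 then 1 else 0).sum := by
      clear hsum hZ hs hint a hψ hlist s
      induction Z with
      | nil => rfl
      | cons z Z ih =>
        rw [List.countP_cons, List.map_cons, List.sum_cons, ih, add_comm]
        simp
    rw [h1, hlist, hs, Finset.card_filter]
  have hval : (∑ i ∈ s, a i) = (q : Char.QBar) := by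
    refine Subtype.ext ?_
    rw [AddSubmonoidClass.coe_finsetSum]
    refine Eq.trans ?_ (by simp : (q : ℂ) = ((q : Char.QBar) : ℂ))
    rw [← hsum, hlist, hs, Finset.sum_filter]
    refine Finset.sum_congr rfl fun i _ => ?_
    by_cases hi : Z[i] = 0
    · simp [hi]
    · rw [if_pos hi]
  rw [hcard]
  refine hψ.trans (le_of_eq ?_)
  rw [← Complex.re_sum, ← map_sum, hval, map_ratCast]
  simp

variable {X : Type*} [Group X] [Fintype X] {A : Type*} [CommGroup A] [Fintype A] (ι : A →* X) {v : X}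

/-- The coefficients of a translated character. -/
noncomputable def coef (χ : X → ℂ) (μ : A →* ℂˣ) : ℂ :=
  (Fintype.card A : ℂ)⁻¹ * ∑ b : A, χ (v * ι b) * (μ b⁻¹ : ℂ)

theorem isNice_coef (hcomm : ∀ a, Commute v (ι a)) {χ : X → ℂ} (hχ : IsCharacter X χ)
    (ν : A →* ℂˣ) : IsNice (coef ι (v := v) χ ν) := by
  classical
  letI : CommGroup (Subgroup.zpowers v) :=
    { (inferInstance : Group (Subgroup.zpowers v)) with
      mul_comm := fun a b => Subtype.ext (by
        obtain ⟨i, hi⟩ := Subgroup.mem_zpowers_iff.mp a.2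
        obtain ⟨j, hj⟩ := Subgroup.mem_zpowers_iff.mp b.2
        show (a : X) * b = b * a
        rw [← hi, ← hj, ← zpow_add, ← zpow_add, add_comm]) }
  haveI : Fintype (Subgroup.zpowers v) := Fintype.ofFinite _
  let f : Subgroup.zpowers v × A →* X := (Subgroup.zpowers v).subtype.noncommCoprod ι fun u a => by
    obtain ⟨i, hi⟩ := Subgroup.mem_zpowers_iff.mp u.2
    show Commute (u : X) (ι a)
    rw [← hi]
    exact (hcomm a).zpow_left i
  have hθ := Char.isCharacter_comp f hχ
  let θ : Subgroup.zpowers v × A → ℂ := fun h => χ (f h)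
  let c : (Subgroup.zpowers v × A →* ℂˣ) → ℂ := fun μ =>
    (Fintype.card (Subgroup.zpowers v × A) : ℂ)⁻¹ * ∑ h, θ h * (μ h⁻¹ : ℂ)
  have hc : ∀ μ, ∃ n : ℕ, c μ = n := fun μ => by
    obtain ⟨n, hn⟩ := Char.exists_nat_classInner hθ (Char.isCharacter_monoidHom μ)
    refine ⟨n, ?_⟩
    rw [← hn, classInner, Nat.card_eq_fintype_card]
    simp only [c, θ, conj_apply]
  choose m hm using hc
  let u : Subgroup.zpowers v := ⟨v, Subgroup.mem_zpowers v⟩
  have hsplit : ∀ (μ : Subgroup.zpowers v × A →* ℂˣ) (b : A),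
      (μ (u, b) : ℂ) = (μ (u, 1) : ℂ) * (μ (1, b) : ℂ) :=
    fun μ b => by rw [← Units.val_mul, ← map_mul, Prod.mk_mul_mk, mul_one, one_mul]
  have hval : ∀ b : A, χ (v * ι b) =
      ∑ μ : Subgroup.zpowers v × A →* ℂˣ, (m μ : ℂ) * ((μ (u, 1) : ℂ) * (μ (1, b) : ℂ)) := fun b => by
    have h := hat_hat θ ((u, b) : Subgroup.zpowers v × A)
    rw [hat] at h
    rw [show χ (v * ι b) = θ (u, b) from rfl, ← h]
    exact Finset.sum_congr rfl fun μ _ => by rw [← hsplit, ← hm μ]
  have hcoef : coef ι (v := v) χ ν = ∑ μ : Subgroup.zpowers v × A →* ℂˣ with μ.comp (MonoidHom.inr _ A) = ν,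
      (m μ : ℂ) * (μ (u, 1) : ℂ) := by
    rw [coef]
    simp only [hval, Finset.sum_mul]
    rw [Finset.sum_comm, Finset.mul_sum, Finset.sum_filter]
    refine Finset.sum_congr rfl fun μ _ => ?_
    set φ : A →* ℂˣ := μ.comp (MonoidHom.inr _ A) * ν⁻¹ with hφdef
    rw [Finset.sum_congr rfl (g := fun b : A => (m μ : ℂ) * (μ (u, 1) : ℂ) * (φ b : ℂ)) fun b _ => by
        simp only [hφdef, MonoidHom.mul_apply, MonoidHom.inv_apply, MonoidHom.comp_apply,
          MonoidHom.inr_apply, map_inv, Units.val_mul]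
        ring,
      ← Finset.mul_sum, sum_apply_eq]
    have hiff : φ = 1 ↔ μ.comp (MonoidHom.inr _ A) = ν := mul_inv_eq_one (G := A →* ℂˣ)
    have hn : (Fintype.card A : ℂ) ≠ 0 := Nat.cast_ne_zero.mpr Fintype.card_ne_zero
    by_cases h : μ.comp (MonoidHom.inr _ A) = ν
    · rw [if_pos (hiff.mpr h), if_pos h]; field_simp
    · rw [if_neg fun e => h (hiff.mp e), if_neg h]; simp
  rw [hcoef]
  refine ⟨IsIntegral.sum _ fun μ _ => ?_, Char.isCMValue_sum _ _ fun μ _ =>
    (Char.isCMValue_natCast _).mul (Char.isCMValue_character (Char.isCharacter_monoidHom μ) _)⟩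
  refine (isIntegral_algebraMap (R := ℤ) (A := ℂ) (x := (m μ : ℤ))).mul ?_
  refine IsIntegral.of_pow (orderOf_pos ((u, 1) : Subgroup.zpowers v × A)) ?_
  rw [← Units.val_pow_eq_pow_val, ← map_pow, pow_orderOf_eq_one, map_one, Units.val_one]
  exact isIntegral_one

/-- **Knörr's count.** -/
theorem card_conjClasses_le (hcomm : ∀ a, Commute v (ι a)) (l : List (Subgroup (A →* ℂˣ)))
    (hl : ∀ a : A, (∀ Λ ∈ l, ∀ μ ∈ Λ, μ a = 1) → a = 1)
    (hne : ∀ χ : IrrCharacter X, (χ : X → ℂ) v ≠ 0) (N : ℕ)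
    (hN : ∀ a, wt l a * Nat.card (Subgroup.centralizer ({v * ι a} : Set X)) ≤
      2 ^ l.length * (N * Fintype.card A)) :
    Nat.card (ConjClasses X) ≤ N := by
  classical
  set Z : List ℂ := (Finset.univ : Finset (IrrCharacter X)).toList.flatMap fun (χ : IrrCharacter X) =>
    vals l (coef ι (v := v) (χ : X → ℂ)) with hZdef
  have hnice : ∀ z ∈ Z, IsNice z := fun z hz => by
    obtain ⟨χ, -, hz⟩ := List.mem_flatMap.mp hz
    exact vals_mem (fun x y => IsNice.sub) l _
      (fun μ => isNice_coef ι hcomm (Char.isCharacter_of_isIrr χ.2) μ) z hz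
  set W : ℕ := ∑ a : A, wt l a * Nat.card (Subgroup.centralizer ({v * ι a} : Set X)) with hW
  have hn : (Fintype.card A : ℂ) ≠ 0 := Nat.cast_ne_zero.mpr Fintype.card_ne_zero
  have hsum : (Z.map fun z => z * conj z).sum = (((W : ℚ) / Fintype.card A : ℚ) : ℂ) := by
    push_cast
    rw [eq_div_iff hn, mul_comm, hZdef, List.map_flatMap, List.flatMap_def, List.sum_flatten,
      List.map_map, Finset.sum_map_toList, Finset.mul_sum]
    simp only [Function.comp_apply, sum_sq_vals]
    rw [Finset.sum_comm, hW, Nat.cast_sum]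
    refine Finset.sum_congr rfl fun a _ => ?_
    have hh : ∀ χ : IrrCharacter X, hat (coef ι (v := v) (χ : X → ℂ)) a = (χ : X → ℂ) (v * ι a) :=
      fun χ => hat_hat (fun b => (χ : X → ℂ) (v * ι b)) a
    rw [← Finset.mul_sum, Nat.cast_mul]
    congr 1
    simp only [hh]
    rw [Char.column_orthogonality, if_pos (IsConj.refl _)]
  have hcount : Nat.card (IrrCharacter X) * (2 ^ l.length * Fintype.card A) ≤
      Z.countP fun z => decide (z ≠ 0) := by
    rw [hZdef, List.countP_flatMap, Finset.sum_map_toList, Nat.card_eq_fintype_card,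
      ← Finset.card_univ (α := IrrCharacter X), ← smul_eq_mul, ← Finset.sum_const]
    refine Finset.sum_le_sum fun χ _ => le_countP l hl fun h => hne χ ?_
    have h1 := hat_hat (fun b => (χ : X → ℂ) (v * ι b)) (1 : A)
    simp only [map_one, mul_one] at h1
    rw [← h1, hat]
    exact Finset.sum_eq_zero fun μ _ => by
      rw [show (Fintype.card A : ℂ)⁻¹ * ∑ b, (χ : X → ℂ) (v * ι b) * (μ b⁻¹ : ℂ) = 0 from
        congrFun h μ, zero_mul]
  have hle := countP_le hnice hsum
  have hWle : W ≤ Fintype.card A * (2 ^ l.length * (N * Fintype.card A)) := by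
    refine (Finset.sum_le_sum fun a _ => hN a).trans (le_of_eq ?_)
    rw [Finset.sum_const, Finset.card_univ, smul_eq_mul]
  rw [← Char.card_irr_eq_card_conjClasses]
  have hn0 : (0 : ℝ) < (Fintype.card A : ℝ) := Nat.cast_pos.mpr Fintype.card_pos
  push_cast at hle
  rw [le_div_iff₀ hn0] at hle
  have h3 : (Nat.card (IrrCharacter X) * (2 ^ l.length * Fintype.card A)) * Fintype.card A ≤
      Fintype.card A * (2 ^ l.length * (N * Fintype.card A)) := by
    have h4 : (Z.countP fun z => decide (z ≠ 0)) * Fintype.card A ≤ W := by exact_mod_cast hle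
    exact ((Nat.mul_le_mul_right _ hcount).trans h4).trans hWle
  have h5 : 0 < 2 ^ l.length * (Fintype.card A * Fintype.card A) :=
    Nat.mul_pos (Nat.two_pow_pos _) (Nat.mul_pos Fintype.card_pos Fintype.card_pos)
  refine Nat.le_of_mul_le_mul_right ?_ h5
  calc _ = Nat.card (IrrCharacter X) * (2 ^ l.length * Fintype.card A) * Fintype.card A := by ring
    _ ≤ _ := h3
    _ = _ := by ring

end CfsgLib.KGV
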