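import Cfsg.Agent.Lib.KGV.Weight
import Mathlib.GroupTheory.PGroup
import Mathlib.GroupTheory.GroupAction.Quotient

/-!
# The weights of a coprime action of an abelian group on an abelian group
-/

set_option autoImplicit false
set_option linter.unusedSectionVars false
set_option linter.style.haveILetI false

namespace CfsgLib.KGV

attribute [local instance] Classical.propDecidable

variable {A : Type*} [CommGroup A] [Fintype A] {V : Type*} [CommGroup V] [Finite V]
  [MulDistribMulAction A V]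

/-- The fixed points of `a` in `W`. -/
def fixIn (W : Subgroup V) (a : A) : Subgroup V where
  carrier := {w | w ∈ W ∧ a • w = w}
  one_mem' := ⟨one_mem _, smul_one a⟩
  mul_mem' := fun {x y} hx hy => ⟨mul_mem hx.1 hy.1, by rw [smul_mul', hx.2, hy.2]⟩
  inv_mem' := fun {x} hx => ⟨inv_mem hx.1, by rw [smul_inv', hx.2]⟩

/-- The annihilator of `K` has order at most the index of `K` and has common kernel `K`. -/
theorem exists_annihilator (K : Subgroup A) :
    ∃ Λ : Subgroup (A →* ℂˣ), Nat.card Λ ≤ K.index ∧ ∀ a, (∀ μ ∈ Λ, μ a = 1) ↔ a ∈ K := by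
  haveI : Fintype (A ⧸ K) := Fintype.ofFinite _
  let F : ((A ⧸ K) →* ℂˣ) →* (A →* ℂˣ) :=
    { toFun := fun μ => μ.comp (QuotientGroup.mk' K)
      map_one' := rfl
      map_mul' := fun _ _ => rfl }
  refine ⟨F.range, ?_, fun a => ⟨fun h => ?_, fun ha => ?_⟩⟩
  · haveI : Finite ((A ⧸ K) →* ℂˣ) := inferInstance
    haveI : NeZero (Monoid.exponent (A ⧸ K) : ℂ) :=
      ⟨Nat.cast_ne_zero.mpr Monoid.exponent_ne_zero_of_finite⟩
    refine (Nat.card_le_card_of_surjective _ F.rangeRestrict_surjective).trans (le_of_eq ?_)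
    rw [CommGroup.card_monoidHom_of_hasEnoughRootsOfUnity (A ⧸ K) ℂ]
    rfl
  · by_contra hne
    obtain ⟨μ, hμ⟩ := exists_hom_ne_one (A := A ⧸ K) (a := QuotientGroup.mk' K a)
      fun e => hne ((QuotientGroup.eq_one_iff a).mp e)
    exact hμ (h (F μ) ⟨μ, rfl⟩)
  · rintro _ ⟨μ, rfl⟩
    show μ (QuotientGroup.mk' K a) = 1
    rw [QuotientGroup.mk'_apply, (QuotientGroup.eq_one_iff a).mpr ha, map_one]

/-- One layer: nothing invariant lies strictly between `W` and `U`. -/
theorem exists_layer {W U : Subgroup V} (hWU : W ≤ U) (hne : W ≠ U)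
    (hWinv : ∀ (a : A), ∀ w ∈ W, a • w ∈ W) (hUinv : ∀ (a : A), ∀ w ∈ U, a • w ∈ U)
    (hmin : ∀ Y : Subgroup V, W ≤ Y → Y ≤ U → (∀ (a : A), ∀ w ∈ Y, a • w ∈ Y) → Y = W ∨ Y = U) :
    ∃ Λ : Subgroup (A →* ℂˣ),
      (∀ a, (∀ μ ∈ Λ, μ a = 1) → ∀ u ∈ U, (a • u) * u⁻¹ ∈ W) ∧
      ∀ a, (if ∀ μ ∈ Λ, μ a = 1 then 1 else 1 + Nat.card Λ) * Nat.card (fixIn U a) * Nat.card W ≤
        Nat.card (fixIn W a) * Nat.card U := by
  obtain ⟨u₀, hu₀U, hu₀W⟩ := SetLike.exists_of_lt (lt_of_le_of_ne hWU hne)
  let K : Subgroup A :=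
    { carrier := {a | ∀ u ∈ U, (a • u) * u⁻¹ ∈ W}
      one_mem' := fun u _ => by simp
      mul_mem' := fun {a b} ha hb u hu => by
        have := mul_mem (ha _ (hUinv b u hu)) (hb u hu)
        rwa [mul_assoc, inv_mul_cancel_left, ← mul_smul] at this
      inv_mem' := fun {a} ha u hu => by
        have := inv_mem (ha _ (hUinv a⁻¹ u hu))
        rwa [smul_inv_smul, mul_inv_rev, inv_inv] at this }
  -- outside `K` only `W` is fixed modulo `W`
  have hfree : ∀ a, a ∉ K → ∀ u ∈ U, (a • u) * u⁻¹ ∈ W → u ∈ W := by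
    intro a ha u hu h
    let Y : Subgroup V :=
      { carrier := {x | x ∈ U ∧ (a • x) * x⁻¹ ∈ W}
        one_mem' := ⟨one_mem _, by simp⟩
        mul_mem' := fun {x y} hx hy => ⟨mul_mem hx.1 hy.1, by
          have := mul_mem hx.2 hy.2
          rw [smul_mul', mul_inv]
          rwa [mul_mul_mul_comm] at this⟩
        inv_mem' := fun {x} hx => ⟨inv_mem hx.1, by
          have := inv_mem hx.2
          rw [mul_inv, inv_inv] at this
          rw [smul_inv', inv_inv]
          exact this⟩ }
    rcases hmin Y (fun w hw => ⟨hWU hw, mul_mem (hWinv a w hw) (inv_mem hw)⟩) (fun x hx => hx.1)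
      (fun b x hx => ⟨hUinv b x hx.1, by
        have := hWinv b _ hx.2
        rw [smul_mul', smul_inv', ← mul_smul, mul_comm b a, mul_smul] at this
        exact this⟩) with h' | h'
    · exact h' ▸ (show u ∈ Y from ⟨hu, h⟩)
    · exact absurd (fun x hx => ((h'.symm ▸ hx : x ∈ Y)).2) ha
  obtain ⟨Λ, hΛ, hker⟩ := exists_annihilator K
  refine ⟨Λ, fun a ha => (hker a).mp ha, fun a => ?_⟩
  rw [if_congr (hker a) rfl rfl]
  have hrel : Nat.card U = Nat.card W * (W.subgroupOf U).index := by
    rw [← Subgroup.card_mul_index (W.subgroupOf U),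
      Nat.card_congr (Subgroup.subgroupOfEquivOfLe hWU).toEquiv]
  split_ifs with ha
  · -- one injection of the fixed points modulo those in `W` into the layer
    rw [one_mul]
    set Y := fixIn U a with hY
    have hYW : W ⊓ Y = fixIn W a := by
      ext x
      exact ⟨fun h => ⟨h.1, h.2.2⟩, fun h => ⟨h.1, hWU h.1, h.2⟩⟩
    have h1 : Nat.card Y = Nat.card (W ⊓ Y : Subgroup V) * (W.subgroupOf Y).index := by
      rw [← Subgroup.card_mul_index (W.subgroupOf Y), ← Subgroup.inf_subgroupOf_right,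
        Nat.card_congr (Subgroup.subgroupOfEquivOfLe (inf_le_right : W ⊓ Y ≤ Y)).toEquiv]
    have h2 : (W.subgroupOf Y).index ≤ (W.subgroupOf U).index :=
      Subgroup.relIndex_le_of_le_right (fun x hx => hx.1) Subgroup.index_ne_zero_of_finite
    rw [h1, hYW, hrel, mul_right_comm, mul_comm (Nat.card W), mul_assoc]
    exact Nat.mul_le_mul_left _ (by rw [mul_comm]; exact Nat.mul_le_mul_right _ h2)
  · have hfix : fixIn U a = fixIn W a := by
      ext x
      refine ⟨fun h => ⟨hfree a ha x h.1 (by rw [h.2, mul_inv_cancel]; exact one_mem _), h.2⟩,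
        fun h => ⟨hWU h.1, h.2⟩⟩
    rw [hfix, mul_comm (1 + Nat.card Λ), mul_assoc, hrel]
    refine Nat.mul_le_mul_left _ ?_
    rw [mul_comm]
    refine Nat.mul_le_mul_left _ ((Nat.add_le_add_left hΛ 1).trans ?_)
    -- the orbit of a coset outside `W`
    haveI : Fintype (U ⧸ W.subgroupOf U) := Fintype.ofFinite _
    haveI : Finite (A ⧸ K) := inferInstance
    let f : Option (A ⧸ K) → U ⧸ W.subgroupOf U := fun o =>
      o.elim 1 fun q => Quotient.liftOn' q (fun b => ((⟨b • u₀, hUinv b u₀ hu₀U⟩ : U) : U ⧸ W.subgroupOf U))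
        fun b c hbc => by
          rw [QuotientGroup.eq, Subgroup.mem_subgroupOf]
          have hk : b⁻¹ * c ∈ K := QuotientGroup.leftRel_apply.mp hbc
          have := hk (b • u₀) (hUinv b u₀ hu₀U)
          rw [← mul_smul, mul_comm b⁻¹ c, inv_mul_cancel_right, mul_comm] at this
          exact this
    have hfinj : Function.Injective f := by
      have hout : ∀ b : A, ((⟨b • u₀, hUinv b u₀ hu₀U⟩ : U) : U ⧸ W.subgroupOf U) ≠ 1 := fun b e => by
        have h1 := Subgroup.mem_subgroupOf.mp ((QuotientGroup.eq_one_iff _).mp e)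
        have := hWinv b⁻¹ _ h1
        rw [inv_smul_smul] at this
        exact hu₀W this
      rintro (_ | q) (_ | q') h
      · rfl
      · induction q' using Quotient.inductionOn' with | h b => exact absurd h.symm (hout b)
      · induction q using Quotient.inductionOn' with | h b => exact absurd h (hout b)
      · induction q using Quotient.inductionOn' with | h b => ?_
        induction q' using Quotient.inductionOn' with | h c => ?_
        refine congrArg some (Quotient.sound' (QuotientGroup.leftRel_apply.mpr ?_))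
        have h1 := Subgroup.mem_subgroupOf.mp (QuotientGroup.eq.mp h)
        by_contra hk
        refine hu₀W (hfree _ hk u₀ hu₀U ?_)
        have h2 := hWinv b⁻¹ _ h1
        simp only [Subgroup.coe_mul, Subgroup.coe_inv] at h2
        rw [smul_mul', smul_inv', inv_smul_smul, ← mul_smul, mul_comm u₀⁻¹] at h2
        exact h2
    have := Nat.card_le_card_of_injective f hfinj
    rw [Finite.card_option] at this
    rw [add_comm]
    exact this

/-- **The list of layers.** -/
theorem exists_layers {p : ℕ} [hp : Fact p.Prime] (hV : IsPGroup p V) (hA : ¬ p ∣ Nat.card A)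
    (U : Subgroup V) (hUinv : ∀ (a : A), ∀ w ∈ U, a • w ∈ U) :
    ∃ l : List (Subgroup (A →* ℂˣ)),
      (∀ a, (∀ Λ ∈ l, ∀ μ ∈ Λ, μ a = 1) → ∀ u ∈ U, a • u = u) ∧
      ∀ a, wt l a * Nat.card (fixIn U a) ≤ 2 ^ l.length * Nat.card U := by
  induction hn : Nat.card U using Nat.strong_induction_on generalizing U with
  | _ n ih =>
  subst hn
  by_cases hU : U = ⊥
  · refine ⟨[], fun a _ u hu => ?_, fun a => ?_⟩
    · rw [hU, Subgroup.mem_bot] at hu
      rw [hu, smul_one]
    · simp only [wt, List.length_nil, pow_zero, one_mul]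
      exact Subgroup.card_le_of_le fun x hx => hx.1
  -- a maximal invariant proper subgroup
  obtain ⟨W, ⟨hWU, hWne, hWinv⟩, hWmax⟩ :=
    Set.Finite.exists_maximal (Set.toFinite
      {Y : Subgroup V | Y ≤ U ∧ Y ≠ U ∧ ∀ (a : A), ∀ w ∈ Y, a • w ∈ Y})
      ⟨⊥, bot_le, Ne.symm hU, fun a w hw => by
        rw [Subgroup.mem_bot] at hw ⊢
        rw [hw, smul_one]⟩
  have hlt : Nat.card W < Nat.card U :=
    lt_of_le_of_ne (Subgroup.card_le_of_le hWU) fun e =>
      hWne (Subgroup.eq_of_le_of_card_ge hWU e.ge)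
  obtain ⟨l, hl1, hl2⟩ := ih _ hlt W hWinv rfl
  obtain ⟨Λ, hΛ1, hΛ2⟩ := exists_layer hWU hWne hWinv hUinv fun Y hWY hYU hYinv => by
    by_cases hY : Y = U
    · exact Or.inr hY
    · exact Or.inl (le_antisymm (hWmax ⟨hYU, hY, hYinv⟩ hWY) hWY)
  refine ⟨Λ :: l, fun a ha u hu => ?_, fun a => ?_⟩
  · have hw : (a • u) * u⁻¹ ∈ W := hΛ1 a (ha Λ List.mem_cons_self) u hu
    have hfix : a • ((a • u) * u⁻¹) = (a • u) * u⁻¹ :=
      hl1 a (fun Λ' h => ha Λ' (List.mem_cons_of_mem _ h)) _ hw
    set w := (a • u) * u⁻¹ with hwdef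
    have hau : a • u = w * u := by rw [hwdef, inv_mul_cancel_right]
    clear_value w
    have hiter : ∀ i : ℕ, (a ^ i) • u = w ^ i * u := fun i => by
      induction i with
      | zero => rw [pow_zero, pow_zero, one_smul, one_mul]
      | succ i ih' =>
        rw [pow_succ', mul_smul, ih', smul_mul', smul_pow', hfix, hau, pow_succ w i, mul_assoc]
    have h1 := hiter (Nat.card A)
    rw [pow_card_eq_one', one_smul] at h1
    have h2 : w ^ Nat.card A = 1 := mul_right_cancel (h1.symm.trans (one_mul u).symm)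
    obtain ⟨k, hk⟩ := IsPGroup.iff_orderOf.mp hV w
    have h3 : orderOf w = 1 := Nat.eq_one_of_dvd_coprimes
      ((hp.out.coprime_iff_not_dvd.mpr hA).pow_left k) hk.dvd (orderOf_dvd_of_pow_eq_one h2)
    rw [hau, orderOf_eq_one_iff.mp h3, one_mul]
  · have hW0 : 0 < Nat.card W := Nat.card_pos
    refine Nat.le_of_mul_le_mul_right ?_ hW0
    have key : ∀ c : ℕ, c * Nat.card (fixIn U a) * Nat.card W ≤
        Nat.card (fixIn W a) * Nat.card U →
        wt l a * (2 * c) * Nat.card (fixIn U a) * Nat.card W ≤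
          2 ^ (l.length + 1) * Nat.card U * Nat.card W := fun c hc => by
      calc wt l a * (2 * c) * Nat.card (fixIn U a) * Nat.card W
          = 2 * wt l a * (c * Nat.card (fixIn U a) * Nat.card W) := by ring
        _ ≤ 2 * wt l a * (Nat.card (fixIn W a) * Nat.card U) := Nat.mul_le_mul_left _ hc
        _ = 2 * (wt l a * Nat.card (fixIn W a)) * Nat.card U := by ring
        _ ≤ 2 * (2 ^ l.length * Nat.card W) * Nat.card U :=
            Nat.mul_le_mul_right _ (Nat.mul_le_mul_left _ (hl2 a))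
        _ = _ := by ring
    have h2 := hΛ2 a
    by_cases h : ∀ μ ∈ Λ, μ a = 1
    · rw [if_pos h] at h2
      simp only [wt, List.length_cons, if_pos h]
      exact key _ h2
    · rw [if_neg h] at h2
      simp only [wt, List.length_cons, if_neg h]
      exact key _ h2

end CfsgLib.KGV
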