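import Mathlib.GroupTheory.FiniteAbelian.Duality
import Mathlib.Analysis.Complex.Polynomial.Basic
import Mathlib.RingTheory.RootsOfUnity.Complex
import Mathlib.RingTheory.RootsOfUnity.AlgebraicallyClosed
import Mathlib.Algebra.BigOperators.Group.List.Basic

/-!
# Knörr's weighted sums over an abelian group

For subgroups `Λ` of the dual of an abelian group `A`, iterated differences of a function on the
dual turn the weights `∏ (1 + #Λ [Λ(a) ≠ 1])` into sums of squares with many nonzero terms.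
-/

set_option autoImplicit false
set_option linter.unusedSectionVars false
set_option linter.style.haveILetI false

namespace CfsgLib.KGV

open Finset
open scoped ComplexConjugate

variable {A : Type*} [CommGroup A] [Fintype A]

attribute [local instance] Classical.propDecidable
-- products in the dual come from its group structure
attribute [-instance] MonoidHom.mul

noncomputable local instance : Fintype (A →* ℂˣ) := Fintype.ofFinite _

theorem card_dual : Fintype.card (A →* ℂˣ) = Fintype.card A := by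
  haveI : NeZero (Monoid.exponent A : ℂ) :=
    ⟨Nat.cast_ne_zero.mpr Monoid.exponent_ne_zero_of_finite⟩
  rw [← Nat.card_eq_fintype_card, ← Nat.card_eq_fintype_card,
    CommGroup.card_monoidHom_of_hasEnoughRootsOfUnity A ℂ]

theorem exists_hom_ne_one {a : A} (ha : a ≠ 1) : ∃ μ : A →* ℂˣ, μ a ≠ 1 := by
  haveI : NeZero (Monoid.exponent A : ℂ) :=
    ⟨Nat.cast_ne_zero.mpr Monoid.exponent_ne_zero_of_finite⟩
  exact CommGroup.exists_apply_ne_one_of_hasEnoughRootsOfUnity A ℂ ha

theorem sum_apply_eq (μ : A →* ℂˣ) :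
    ∑ a : A, (μ a : ℂ) = if μ = 1 then (Fintype.card A : ℂ) else 0 := by
  split_ifs with h
  · simp [h]
  · obtain ⟨b, hb⟩ : ∃ b, μ b ≠ 1 := by
      by_contra hc
      push Not at hc
      exact h (MonoidHom.ext hc)
    refine eq_zero_of_mul_eq_self_left (show (μ b : ℂ) ≠ 1 from fun e => hb (Units.ext e)) ?_
    rw [Finset.mul_sum]
    exact Fintype.sum_equiv (Equiv.mulLeft b) _ _ fun a => by simp

theorem sum_dual_eq (Λ : Subgroup (A →* ℂˣ)) (a : A) :
    ∑ μ : Λ, ((μ : A →* ℂˣ) a : ℂ) =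
      if ∀ μ ∈ Λ, μ a = 1 then (Nat.card Λ : ℂ) else 0 := by
  split_ifs with h
  · rw [Finset.sum_congr rfl (g := fun _ => (1 : ℂ)) fun μ _ => by rw [h μ μ.2]; simp]
    simp [Nat.card_eq_fintype_card]
  · push Not at h
    obtain ⟨ν, hν, hne⟩ := h
    refine eq_zero_of_mul_eq_self_left (show (ν a : ℂ) ≠ 1 from fun e => hne (Units.ext e)) ?_
    rw [Finset.mul_sum]
    exact Fintype.sum_equiv (Equiv.mulLeft (⟨ν, hν⟩ : Λ)) _ _ fun μ => by simp

theorem conj_apply (μ : A →* ℂˣ) (a : A) : conj (μ a : ℂ) = (μ a⁻¹ : ℂ) := by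
  have h1 : ‖(μ a : ℂ)‖ = 1 := by
    refine Complex.norm_eq_one_of_pow_eq_one (n := orderOf a) ?_ (orderOf_pos a).ne'
    rw [← Units.val_pow_eq_pow_val, ← map_pow, pow_orderOf_eq_one, map_one, Units.val_one]
  rw [map_inv, Units.val_inv_eq_inv_val, Complex.inv_eq_conj h1]

theorem hom_right_comm (x y z : A →* ℂˣ) : x * y * z = x * z * y :=
  MonoidHom.ext fun a => mul_right_comm (x a) (y a) (z a)

theorem hom_inv_inv_mul (x y z : A →* ℂˣ) : x * (y⁻¹)⁻¹ * z = x * (y * z) :=
  MonoidHom.ext fun a => by simp [mul_assoc]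

theorem hom_mul_inv_left (x y : A →* ℂˣ) : x * (x⁻¹ * y) = y :=
  MonoidHom.ext fun a => by simp

/-- The Fourier transform. -/
noncomputable def hat (f : (A →* ℂˣ) → ℂ) (a : A) : ℂ := ∑ μ : A →* ℂˣ, f μ * (μ a : ℂ)

theorem hat_hat (θ : A → ℂ) (a : A) :
    hat (fun μ : A →* ℂˣ => (Fintype.card A : ℂ)⁻¹ * ∑ b, θ b * (μ b⁻¹ : ℂ)) a = θ a := by
  have hn : (Fintype.card A : ℂ) ≠ 0 := Nat.cast_ne_zero.mpr Fintype.card_ne_zero
  have hsum : ∀ b, ∑ μ : A →* ℂˣ, (μ b⁻¹ : ℂ) * (μ a : ℂ) =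
      if b = a then (Fintype.card A : ℂ) else 0 := fun b => by
    have h := sum_dual_eq (⊤ : Subgroup (A →* ℂˣ)) (b⁻¹ * a)
    have e : ∑ μ : (⊤ : Subgroup (A →* ℂˣ)), ((μ : A →* ℂˣ) (b⁻¹ * a) : ℂ) =
        ∑ μ : A →* ℂˣ, (μ b⁻¹ : ℂ) * (μ a : ℂ) :=
      Fintype.sum_equiv Subgroup.topEquiv.toEquiv _ _ fun μ => by simp
    rw [← e, h, Subgroup.card_top, Nat.card_eq_fintype_card, card_dual]
    refine if_congr ⟨fun hall => ?_, fun hba μ _ => by rw [hba, inv_mul_cancel, map_one]⟩ rfl rfl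
    by_contra hne
    obtain ⟨μ, hμ⟩ := exists_hom_ne_one (show b⁻¹ * a ≠ 1 from fun e => hne (inv_mul_eq_one.mp e))
    exact hμ (hall μ trivial)
  simp only [hat, Finset.mul_sum, Finset.sum_mul]
  rw [Finset.sum_comm, Finset.sum_congr rfl (g := fun b => (Fintype.card A : ℂ)⁻¹ * θ b *
    ∑ μ : A →* ℂˣ, (μ b⁻¹ : ℂ) * (μ a : ℂ)) fun b _ => by
      rw [Finset.mul_sum]; exact Finset.sum_congr rfl fun μ _ => by ring]
  simp only [hsum, mul_ite, mul_zero, Finset.sum_ite_eq', Finset.mem_univ, if_true]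
  field_simp

theorem parseval (f : (A →* ℂˣ) → ℂ) :
    ∑ a : A, hat f a * conj (hat f a) =
      (Fintype.card A : ℂ) * ∑ μ : A →* ℂˣ, f μ * conj (f μ) := by
  simp only [hat, map_sum, map_mul, conj_apply, Finset.sum_mul, Finset.mul_sum]
  rw [Finset.sum_comm]
  refine Finset.sum_congr rfl fun μ _ => ?_
  rw [Finset.sum_comm, Finset.sum_eq_single μ]
  · rw [Finset.sum_congr rfl (g := fun _ => f μ * conj (f μ)) fun a _ => by
      rw [show f μ * (μ a : ℂ) * (conj (f μ) * (μ a⁻¹ : ℂ)) =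
        f μ * conj (f μ) * ((μ a : ℂ) * (μ a⁻¹ : ℂ)) by ring,
        ← Units.val_mul, ← map_mul, mul_inv_cancel, map_one, Units.val_one, mul_one]]
    simp [mul_comm]
  · intro ν _ hne
    rw [Finset.sum_congr rfl (g := fun a => f ν * conj (f μ) * ((ν * μ⁻¹) a : ℂ)) fun a _ => by
      simp only [MonoidHom.mul_apply, MonoidHom.inv_apply, map_inv, Units.val_mul]; ring,
      ← Finset.mul_sum, sum_apply_eq, if_neg fun e => hne (mul_inv_eq_one.mp e), mul_zero]
  · simp

/-- The iterated differences. -/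
noncomputable def vals : List (Subgroup (A →* ℂˣ)) → ((A →* ℂˣ) → ℂ) → List ℂ
  | [], f => (Finset.univ : Finset (A →* ℂˣ)).toList.map f
  | Λ :: l, f => vals l f ++ vals l f ++
      ((Finset.univ : Finset ↥Λ).toList.flatMap fun (μ : ↥Λ) =>
        vals l fun x => f x - f (x * (μ : A →* ℂˣ)⁻¹))

/-- The weight. -/
noncomputable def wt : List (Subgroup (A →* ℂˣ)) → A → ℕ
  | [], _ => 1
  | Λ :: l, a => wt l a * (2 * if ∀ μ ∈ Λ, μ a = 1 then 1 else 1 + Nat.card Λ)

theorem sum_sq_vals (l : List (Subgroup (A →* ℂˣ))) : ∀ f : (A →* ℂˣ) → ℂ,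
    (Fintype.card A : ℂ) * ((vals l f).map fun z => z * conj z).sum =
      ∑ a : A, (wt l a : ℂ) * (hat f a * conj (hat f a)) := by
  induction l with
  | nil =>
    intro f
    simp only [vals, wt, List.map_map, Nat.cast_one, one_mul, parseval]
    rw [Finset.sum_map_toList]
    rfl
  | cons Λ l ih =>
    intro f
    simp only [vals, List.map_append, List.sum_append, List.map_flatMap, mul_add, ih]
    rw [List.flatMap_def, List.sum_flatten, List.map_map, Finset.sum_map_toList, Finset.mul_sum]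
    simp only [Function.comp_apply, ih]
    rw [Finset.sum_comm, ← Finset.sum_add_distrib, ← Finset.sum_add_distrib]
    refine Finset.sum_congr rfl fun a _ => ?_
    have hshift : ∀ μ : Λ, hat (fun x => f x - f (x * (μ : A →* ℂˣ)⁻¹)) a =
        hat f a * (1 - ((μ : A →* ℂˣ) a : ℂ)) := fun μ => by
      simp only [hat, sub_mul, Finset.sum_sub_distrib, mul_sub, mul_one]
      congr 1
      rw [Finset.sum_mul]
      refine Fintype.sum_equiv (Equiv.mulRight (μ : A →* ℂˣ)⁻¹) _ _ fun x => ?_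
      simp only [Equiv.coe_mulRight, MonoidHom.mul_apply, Units.val_mul, MonoidHom.inv_apply,
        Units.val_inv_eq_inv_val]
      field_simp [Units.ne_zero]
    have hsum : ∑ μ : Λ, (1 - ((μ : A →* ℂˣ) a : ℂ)) * conj (1 - ((μ : A →* ℂˣ) a : ℂ)) =
        if ∀ μ ∈ Λ, μ a = 1 then 0 else 2 * (Nat.card Λ : ℂ) := by
      have e : ∀ μ : Λ, (1 - ((μ : A →* ℂˣ) a : ℂ)) * conj (1 - ((μ : A →* ℂˣ) a : ℂ)) =
          2 - ((μ : A →* ℂˣ) a : ℂ) - ((μ : A →* ℂˣ) a⁻¹ : ℂ) := fun μ => by
        have h1 : ((μ : A →* ℂˣ) a : ℂ) * ((μ : A →* ℂˣ) a⁻¹ : ℂ) = 1 := by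
          rw [← Units.val_mul, ← map_mul, mul_inv_cancel, map_one, Units.val_one]
        rw [map_sub, map_one, conj_apply]
        linear_combination h1
      simp only [e, Finset.sum_sub_distrib, Finset.sum_const, Finset.card_univ, nsmul_eq_mul,
        sum_dual_eq, ← Nat.card_eq_fintype_card]
      have hiff : (∀ μ ∈ Λ, μ a⁻¹ = 1) ↔ ∀ μ ∈ Λ, μ a = 1 := by
        simp only [map_inv, inv_eq_one]
      by_cases h : ∀ μ ∈ Λ, μ a = 1
      · rw [if_pos h, if_pos h, if_pos (hiff.mpr h)]; ring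
      · rw [if_neg h, if_neg h, if_neg fun h' => h (hiff.mp h')]; ring
    rw [Finset.sum_congr rfl (g := fun μ : Λ => (wt l a : ℂ) * (hat f a * conj (hat f a)) *
      ((1 - ((μ : A →* ℂˣ) a : ℂ)) * conj (1 - ((μ : A →* ℂˣ) a : ℂ)))) fun μ _ => by
        rw [hshift μ, map_mul]; ring, ← Finset.mul_sum, hsum]
    simp only [wt]
    split_ifs <;> push_cast <;> ring

/-- The translates of the support. -/
noncomputable def supp (L : Subgroup (A →* ℂˣ)) (f : (A →* ℂˣ) → ℂ) : Finset (A →* ℂˣ) :=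
  Finset.univ.filter fun x => ∃ h ∈ L, f (x * h) ≠ 0

theorem mem_supp {L : Subgroup (A →* ℂˣ)} {f : (A →* ℂˣ) → ℂ} {x : A →* ℂˣ} :
    x ∈ supp L f ↔ ∃ h ∈ L, f (x * h) ≠ 0 := by simp [supp]

/-- The subgroup generated. -/
noncomputable def gen : List (Subgroup (A →* ℂˣ)) → Subgroup (A →* ℂˣ)
  | [] => ⊥
  | Λ :: l => Λ ⊔ gen l

theorem card_supp_le (l : List (Subgroup (A →* ℂˣ))) : ∀ f : (A →* ℂˣ) → ℂ,
    2 ^ l.length * (supp (gen l) f).card ≤ (vals l f).countP fun z => decide (z ≠ 0) := by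
  induction l with
  | nil =>
    intro f
    simp only [gen, List.length_nil, pow_zero, one_mul, vals, List.countP_map]
    rw [List.countP_eq_length_filter]
    refine le_of_eq ?_
    rw [← List.toFinset_card_of_nodup ((Finset.nodup_toList _).filter _)]
    congr 1
    ext x
    simp [mem_supp, mul_one x]
  | cons Λ l ih =>
    intro f
    set S := supp (gen l) f with hS
    set U := supp (Λ ⊔ gen l) f with hU
    let g : Λ → (A →* ℂˣ) → ℂ := fun μ x => f x - f (x * (μ : A →* ℂˣ)⁻¹)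
    let N : Λ → Finset (A →* ℂˣ) := fun μ =>
      (Finset.univ.filter fun x => x ∉ S ∧ x * (μ : A →* ℂˣ)⁻¹ ∈ S) ∪
        (Finset.univ.filter fun x => x ∈ S ∧ x * (μ : A →* ℂˣ)⁻¹ ∉ S)
    have hN : ∀ μ, N μ ⊆ supp (gen l) (g μ) := fun μ x hx => by
      simp only [N, Finset.mem_union, Finset.mem_filter, Finset.mem_univ, true_and] at hx
      rw [mem_supp]
      rcases hx with ⟨h1, h2⟩ | ⟨h1, h2⟩
      · obtain ⟨h, hh, hne⟩ := mem_supp.mp h2
        refine ⟨h, hh, ?_⟩
        have h0 : f (x * h) = 0 := by_contra fun e => h1 (mem_supp.mpr ⟨h, hh, e⟩)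
        simp only [g, h0, zero_sub, neg_ne_zero]
        rwa [show x * h * (μ : A →* ℂˣ)⁻¹ = x * (μ : A →* ℂˣ)⁻¹ * h from hom_right_comm _ _ _]
      · obtain ⟨h, hh, hne⟩ := mem_supp.mp h1
        refine ⟨h, hh, ?_⟩
        have h0 : f (x * h * (μ : A →* ℂˣ)⁻¹) = 0 := by
          by_contra e
          exact h2 (mem_supp.mpr ⟨h, hh, by
            rwa [show x * (μ : A →* ℂˣ)⁻¹ * h = x * h * (μ : A →* ℂˣ)⁻¹ from hom_right_comm _ _ _]⟩)
        simp only [g, h0, sub_zero]
        exact hne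
    have hcard : ∀ μ : Λ, (N μ).card =
        2 * (Finset.univ.filter fun x => x ∉ S ∧ x * (μ : A →* ℂˣ)⁻¹ ∈ S).card := fun μ => by
      set P := Finset.univ.filter fun x => x ∉ S ∧ x * (μ : A →* ℂˣ)⁻¹ ∈ S with hP
      set Q := Finset.univ.filter fun x => x ∈ S ∧ x * (μ : A →* ℂˣ)⁻¹ ∉ S with hQ
      have hd : Disjoint P Q := by
        rw [Finset.disjoint_left]
        intro x hx hx'
        exact (Finset.mem_filter.mp hx).2.1 (Finset.mem_filter.mp hx').2.1
      have hS' : (Finset.univ.filter fun x => x * (μ : A →* ℂˣ)⁻¹ ∈ S).card = S.card :=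
        Finset.card_bij (fun x _ => x * (μ : A →* ℂˣ)⁻¹) (fun x hx => (Finset.mem_filter.mp hx).2)
          (fun x _ y _ h => mul_right_cancel h)
          fun y hy => ⟨y * (μ : A →* ℂˣ), Finset.mem_filter.mpr ⟨Finset.mem_univ _, by
            simpa using hy⟩, by simp⟩
      have h1 : P.card + (Finset.univ.filter fun x => x ∈ S ∧ x * (μ : A →* ℂˣ)⁻¹ ∈ S).card =
          (Finset.univ.filter fun x => x * (μ : A →* ℂˣ)⁻¹ ∈ S).card := by
        rw [← Finset.card_union_of_disjoint]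
        · congr 1
          ext x
          simp only [hP, Finset.mem_union, Finset.mem_filter, Finset.mem_univ, true_and]
          tauto
        · rw [Finset.disjoint_left]
          intro x hx hx'
          exact (Finset.mem_filter.mp hx).2.1 (Finset.mem_filter.mp hx').2.1
      have h2 : Q.card + (Finset.univ.filter fun x => x ∈ S ∧ x * (μ : A →* ℂˣ)⁻¹ ∈ S).card =
          S.card := by
        rw [← Finset.card_union_of_disjoint]
        · congr 1
          ext x
          simp only [hQ, Finset.mem_union, Finset.mem_filter, Finset.mem_univ, true_and]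
          tauto
        · rw [Finset.disjoint_left]
          intro x hx hx'
          exact (Finset.mem_filter.mp hx).2.2 (Finset.mem_filter.mp hx').2.2
      show (P ∪ Q).card = _
      rw [Finset.card_union_of_disjoint hd]
      omega
    have hcover : U \ S ⊆ (Finset.univ : Finset Λ).biUnion fun μ =>
        Finset.univ.filter fun x => x ∉ S ∧ x * (μ : A →* ℂˣ)⁻¹ ∈ S := fun x hx => by
      obtain ⟨hxU, hxS⟩ := Finset.mem_sdiff.mp hx
      obtain ⟨h, hh, hne⟩ := mem_supp.mp hxU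
      obtain ⟨m, hm, h', hh', rfl⟩ := Subgroup.mem_sup.mp hh
      refine Finset.mem_biUnion.mpr ⟨⟨m⁻¹, inv_mem hm⟩, Finset.mem_univ _,
        Finset.mem_filter.mpr ⟨Finset.mem_univ _, hxS, mem_supp.mpr ⟨h', hh', ?_⟩⟩⟩
      rwa [hom_inv_inv_mul]
    have hS_U : S ⊆ U := fun x hx => by
      obtain ⟨h, hh, hne⟩ := mem_supp.mp hx
      exact mem_supp.mpr ⟨h, Subgroup.mem_sup_right hh, hne⟩
    have hmain : 2 * U.card ≤ 2 * S.card + ∑ μ : Λ, (supp (gen l) (g μ)).card := by
      have h1 := (Finset.card_le_card hcover).trans Finset.card_biUnion_le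
      have h2 : 2 * (U \ S).card ≤ ∑ μ : Λ, (supp (gen l) (g μ)).card := by
        refine (Nat.mul_le_mul_left 2 h1).trans ?_
        rw [Finset.mul_sum]
        exact Finset.sum_le_sum fun μ _ => (hcard μ).symm.le.trans (Finset.card_le_card (hN μ))
      rw [Finset.card_sdiff_of_subset hS_U] at h2
      have := Finset.card_le_card hS_U
      omega
    simp only [vals, List.countP_append, List.countP_flatMap, Finset.sum_map_toList]
    calc 2 ^ (Λ :: l).length * (supp (gen (Λ :: l)) f).card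
        = 2 ^ l.length * (2 * U.card) := by rw [List.length_cons, pow_succ, mul_assoc]; rfl
      _ ≤ 2 ^ l.length * (2 * S.card + ∑ μ : Λ, (supp (gen l) (g μ)).card) :=
          Nat.mul_le_mul_left _ hmain
      _ ≤ _ := by
          rw [mul_add, Finset.mul_sum, mul_left_comm, two_mul]
          exact Nat.add_le_add (Nat.add_le_add (ih f) (ih f))
            (Finset.sum_le_sum fun μ _ => ih (g μ))

theorem gen_eq_top (l : List (Subgroup (A →* ℂˣ)))
    (h : ∀ a : A, (∀ Λ ∈ l, ∀ μ ∈ Λ, μ a = 1) → a = 1) : gen l = ⊤ := by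
  have hle : ∀ (l : List (Subgroup (A →* ℂˣ))), ∀ Λ ∈ l, Λ ≤ gen l := by
    intro l
    induction l with
    | nil => simp
    | cons Λ' l ih =>
      intro Λ hΛ
      rcases List.mem_cons.mp hΛ with rfl | h'
      · exact le_sup_left
      · exact (ih Λ h').trans le_sup_right
  let ev : A →* ((gen l) →* ℂˣ) :=
    { toFun := fun a => { toFun := fun μ => (μ : A →* ℂˣ) a, map_one' := rfl, map_mul' := fun _ _ => rfl }
      map_one' := MonoidHom.ext fun μ => map_one (μ : A →* ℂˣ)
      map_mul' := fun a b => MonoidHom.ext fun μ => map_mul (μ : A →* ℂˣ) a b }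
  have hev : Function.Injective ev := by
    rw [injective_iff_map_eq_one]
    exact fun a ha => h a fun Λ hΛ μ hμ => DFunLike.congr_fun ha ⟨μ, hle l Λ hΛ hμ⟩
  haveI : NeZero (Monoid.exponent (gen l) : ℂ) :=
    ⟨Nat.cast_ne_zero.mpr Monoid.exponent_ne_zero_of_finite⟩
  have h1 := Nat.card_le_card_of_injective ev hev
  rw [CommGroup.card_monoidHom_of_hasEnoughRootsOfUnity (gen l) ℂ] at h1
  refine Subgroup.eq_top_of_le_card _ ?_
  rwa [Nat.card_eq_fintype_card (α := A →* ℂˣ), card_dual, ← Nat.card_eq_fintype_card]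

/-- A nonzero function has at least `#A` times `2 ^ length` nonzero differences. -/
theorem le_countP (l : List (Subgroup (A →* ℂˣ)))
    (h : ∀ a : A, (∀ Λ ∈ l, ∀ μ ∈ Λ, μ a = 1) → a = 1) {f : (A →* ℂˣ) → ℂ} (hf : f ≠ 0) :
    2 ^ l.length * Fintype.card A ≤ (vals l f).countP fun z => decide (z ≠ 0) := by
  refine le_trans (Nat.mul_le_mul_left _ (le_of_eq ?_)) (card_supp_le l f)
  obtain ⟨x₀, hx₀⟩ := Function.ne_iff.mp hf
  rw [gen_eq_top l h, ← card_dual, ← Finset.card_univ]
  congr 1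
  refine (Finset.eq_univ_of_forall fun x => mem_supp.mpr ⟨x⁻¹ * x₀, Subgroup.mem_top _, ?_⟩).symm
  rw [hom_mul_inv_left]
  exact hx₀

/-- The differences stay in every set closed under differences. -/
theorem vals_mem {P : ℂ → Prop} (hP : ∀ x y, P x → P y → P (x - y))
    (l : List (Subgroup (A →* ℂˣ))) : ∀ f : (A →* ℂˣ) → ℂ, (∀ x, P (f x)) →
      ∀ z ∈ vals l f, P z := by
  induction l with
  | nil =>
    intro f hf z hz
    simp only [vals, List.mem_map] at hz
    obtain ⟨x, -, rfl⟩ := hz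
    exact hf x
  | cons Λ l ih =>
    intro f hf z hz
    simp only [vals, List.mem_append, List.mem_flatMap] at hz
    rcases hz with (hz | hz) | ⟨μ, -, hz⟩
    · exact ih f hf z hz
    · exact ih f hf z hz
    · exact ih _ (fun x => hP _ _ (hf x) (hf _)) z hz

end CfsgLib.KGV
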